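import Groth.Agent.Lib.DiagGrp.Charts
import Groth.Agent.Lib.DiagGrp.CharHom
import Groth.Agent.Lib.EtSite.FpqcDescent
import Groth.Prelude.Def_SGA3x
import Mathlib.AlgebraicGeometry.Morphisms.Finite
import Mathlib.RingTheory.IntegralClosure.IsIntegralClosure.Basic

/-!
The powers on a group of multiplicative type of finite type are finite.
-/

set_option autoImplicit false
universe u

open CategoryTheory MonoidalCategory CartesianMonoidalCategory MonObj GrpObj AlgebraicGeometry
open CategoryTheory.Limits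

namespace GrothLib.NormQF14

variable {S : Scheme.{u}}

theorem DS_pow (W : Scheme.{u}) (M : Type) [AddCommGroup M] (n : ℕ) :
    (𝟙 (Red.DS W M)) ^ n = Red.DSmap W (n • AddMonoidHom.id M) := by
  refine DiagGrp.ds_hom_ext fun C _ p χ => ?_
  rw [MonObj.comp_pow, Category.comp_id, DiagGrp.dsPoint_DSmap, ← map_pow]
  congr 1
  refine MonoidHom.ext fun m => ?_
  change χ m ^ n = χ (Multiplicative.ofAdd (n • m.toAdd))
  rw [ofAdd_nsmul, map_pow]
  rfl

theorem isFinite_DSmap_nsmul (W : Scheme.{u}) (M : Type) [AddCommGroup M] (hM : AddGroup.FG M) (n : ℕ)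
    (hn : 0 < n) : IsFinite (Red.DSmap W (n • AddMonoidHom.id M)).left := by
  let φ : M →+ M := n • AddMonoidHom.id M
  let σ := Limits.IsTerminal.from specULiftZIsTerminal W
  have hfst : (Red.DSmap W φ).left ≫ pullback.fst _ σ = pullback.fst _ σ ≫ (Red.diagMap (ULift.{u} ℤ) φ).left :=
    pullback.lift_fst _ _ _
  have hsnd : (Red.DSmap W φ).left ≫ pullback.snd _ σ = pullback.snd _ σ :=
    (pullback.lift_snd _ _ _)
  let A := MonoidAlgebra (ULift.{u} ℤ) (Multiplicative M)
  let τ : A →+* A :=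
    (MonoidAlgebra.mapDomainAlgHom (ULift.{u} ℤ) (ULift.{u} ℤ) (AddMonoidHom.toMultiplicative φ)).toRingHom
  have hτ : ∀ j : M, τ (MonoidAlgebra.single (Multiplicative.ofAdd j) 1) =
      MonoidAlgebra.single (Multiplicative.ofAdd j) 1 ^ n := fun j => by
    show MonoidAlgebra.mapDomain _ (MonoidAlgebra.single (Multiplicative.ofAdd j) (1 : ULift.{u} ℤ)) = _
    rw [MonoidAlgebra.mapDomain_single, MonoidAlgebra.single_pow, one_pow]
    simp [φ, ← ofAdd_nsmul]
  have hτ1 : ∀ j : M, τ.IsIntegralElem (MonoidAlgebra.single (Multiplicative.ofAdd j) 1) := fun j => by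
    refine ⟨Polynomial.X ^ n - Polynomial.C (MonoidAlgebra.single (Multiplicative.ofAdd j) 1),
      Polynomial.monic_X_pow_sub_C _ hn.ne', ?_⟩
    rw [Polynomial.eval₂_sub, Polynomial.eval₂_pow, Polynomial.eval₂_X, Polynomial.eval₂_C, sub_eq_zero, hτ]
  have hint : τ.IsIntegral := fun r => by
    induction r using MonoidAlgebra.induction_on with
    | of g => exact hτ1 g.toAdd
    | add p q hp hq => exact RingHom.IsIntegralElem.add τ hp hq
    | smul c p hp =>
      rw [Algebra.smul_def]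
      refine RingHom.IsIntegralElem.mul τ ?_ hp
      have : τ (algebraMap (ULift.{u} ℤ) A c) = algebraMap (ULift.{u} ℤ) A c := AlgHom.commutes _ c
      rw [← this]
      exact τ.isIntegralElem_map
  haveI : Monoid.FG (Multiplicative M) := AddMonoid.fg_iff_mul_fg.mp (AddGroup.fg_iff_addMonoid_fg.mp hM)
  have hft : τ.FiniteType :=
    RingHom.FiniteType.of_comp_finiteType (f := algebraMap (ULift.{u} ℤ) A) (by
      rw [show τ.comp (algebraMap (ULift.{u} ℤ) A) = algebraMap (ULift.{u} ℤ) A from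
        RingHom.ext fun c => (MonoidAlgebra.mapDomainAlgHom (ULift.{u} ℤ) (ULift.{u} ℤ) (AddMonoidHom.toMultiplicative φ)).commutes c]
      exact RingHom.finiteType_algebraMap.mpr inferInstance)
  haveI hd : IsFinite (Red.diagMap (ULift.{u} ℤ) φ).left :=
    (IsFinite.SpecMap_iff _).2 (RingHom.finite_iff_isIntegral_and_finiteType.2 ⟨hint, hft⟩)
  have sq : IsPullback (pullback.fst _ σ) (Red.DSmap W φ).left (Red.diagMap (ULift.{u} ℤ) φ).left
      (pullback.fst _ σ) := by
    refine IsPullback.of_bot ?_ hfst.symm (IsPullback.of_hasPullback _ σ)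
    rw [hsnd, Over.w]
    exact IsPullback.of_hasPullback _ σ
  exact MorphismProperty.of_isPullback sq hd

theorem map_id_pow {S' : Scheme.{u}} (g : S' ⟶ S) (Z : Over S) [GrpObj Z] (n : ℕ) :
    (Over.pullback g).map ((𝟙 Z : Z ⟶ Z) ^ n) = (𝟙 (Red.bc g Z)) ^ n := by
  induction n with
  | zero => rw [pow_zero, pow_zero, Functor.map_one]
  | succ n ih => rw [pow_succ, pow_succ, Functor.map_mul, ih, CategoryTheory.Functor.map_id]

theorem pow_conj {A B : Over S} [GrpObj A] [GrpObj B] (e : Grp.mk A ≅ Grp.mk B) (n : ℕ) :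
    ((𝟙 A) ^ n) = e.hom.hom.hom ≫ ((𝟙 B) ^ n) ≫ e.inv.hom.hom := by
  haveI : IsMonHom e.inv.hom.hom := e.inv.hom.isMonHom_hom
  have h : e.hom.hom.hom ≫ e.inv.hom.hom = 𝟙 A := congrArg (fun t => t.hom.hom) e.hom_inv_id
  rw [← Category.assoc, MonObj.comp_pow, Category.comp_id, MonObj.pow_comp, h]

/-- The powers on a group of multiplicative type of finite type are finite. -/
theorem isFinite_pow (Z : Over S) [GrpObj Z] (hZ : SGA3x.IsMultTypeFT Z) (n : ℕ) (hn : 0 < n) :
    IsFinite ((𝟙 Z : Z ⟶ Z) ^ n).left := by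
  obtain ⟨S', f, h1, h2, h3, h4⟩ := hZ
  refine DiagGrp.of_charts @IsFinite (fun M inst => @AddGroup.FG M inst.toAddGroup)
    ⟨S', f, h1, h2, h3, h4⟩ _ fun {W} _ g {M} inst hM e => ?_
  rw [map_id_pow]
  let a : Red.bc g Z ≅ Red.DS W M := (Grp.forget _).mapIso e
  have h : ((𝟙 (Red.bc g Z)) ^ n) = a.hom ≫ ((𝟙 (Red.DS W M)) ^ n) ≫ a.inv := pow_conj e n
  rw [h, DS_pow, Over.comp_left, Over.comp_left]
  haveI := isFinite_DSmap_nsmul W M hM n hn
  haveI : IsIso a.hom.left := inferInstanceAs (IsIso ((Over.forget W).map a.hom))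
  haveI : IsIso a.inv.left := inferInstanceAs (IsIso ((Over.forget W).map a.inv))
  infer_instance

end GrothLib.NormQF14
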