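import Groth.Agent.Lib.NormQF14.Pow
import Groth.Agent.Lib.RedSubgrp15.Main
import Groth.Agent.Lib.RedSmooth.Basic
import Groth.Agent.Lib.MonoSemi14.Basic
import Groth.Agent.Lib.DiagGrp.TrivOver
import Groth.Prelude.Def_Red2
import Mathlib.AlgebraicGeometry.AlgClosed.Basic
import Mathlib.AlgebraicGeometry.ValuativeCriterion
import Mathlib.AlgebraicGeometry.ZariskisMainTheorem
import Mathlib.GroupTheory.OrderOfElement

/-!
Normal subgroup schemes with finite geometric fibres in a group with connected fibres and centre of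
multiplicative type satisfy the existence part of the valuative criterion.
-/

set_option autoImplicit false
universe u

open CategoryTheory MonoidalCategory CartesianMonoidalCategory MonObj GrpObj AlgebraicGeometry
open CategoryTheory.Limits

set_option backward.isDefEq.respectTransparency false

namespace GrothLib.NormQF14

variable {S : Scheme.{u}}

/-- A locally quasi-finite quasi-compact scheme has finitely many points over an algebraically closed field. -/
theorem finite_points {X : Scheme.{u}} (L : Type u) [Field L] [IsAlgClosed L]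
    (f : X ⟶ Spec (CommRingCat.of L)) [LocallyQuasiFinite f] [LocallyOfFiniteType f] [QuasiCompact f] :
    Finite {p : Spec (CommRingCat.of L) ⟶ X // p ≫ f = 𝟙 _} := by
  haveI : Finite ↥X := by
    rw [← Set.finite_univ_iff]
    exact (f.finite_preimage_singleton (IsLocalRing.closedPoint L)).subset fun z _ =>
      Subsingleton.elim (α := PrimeSpectrum L) _ _
  exact Finite.of_equiv _ (pointEquivClosedPoint f).symm

theorem finite_pts_over (K : Over S) [QuasiCompact K.hom] {L : Type u} [Field L] [IsAlgClosed L]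
    (σ : Spec (CommRingCat.of L) ⟶ S) [LocallyQuasiFinite (pullback.snd K.hom σ)]
    [LocallyOfFiniteType K.hom] : Finite (Over.mk σ ⟶ K) := by
  haveI := finite_points L (pullback.snd K.hom σ)
  refine Finite.of_injective
    (β := {p : Spec (CommRingCat.of L) ⟶ pullback K.hom σ // p ≫ pullback.snd K.hom σ = 𝟙 _})
    (fun x => ⟨pullback.lift x.left (𝟙 _) (by rw [Over.w x, Category.id_comp]; rfl), pullback.lift_snd _ _ _⟩)
    fun x y h => ?_
  have h1 := congrArg (fun p => p ≫ pullback.fst K.hom σ) (Subtype.ext_iff.mp h)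
  simp only [pullback.lift_fst] at h1
  exact Over.OverMorphism.ext h1

variable {G K : Over S} [GrpObj G] [GrpObj K]

/-- The points with values in an algebraically closed field of a finite normal subgroup of a connected group
are central. -/
theorem central_geom [LocallyOfFiniteType G.hom] [IsSeparated G.hom]
    (hconn : ∀ s : S, _root_.IsConnected (G.hom ⁻¹' {s}))
    (k : K ⟶ G) (hKn : AlgGrp.IsNormalHom k) {L : Type u} [Field L] [IsAlgClosed L]
    (σ : Spec (CommRingCat.of L) ⟶ S) [Finite (Over.mk σ ⟶ K)] (x : Over.mk σ ⟶ K) (g : Over.mk σ ⟶ G) :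
    g * (x ≫ k) * g⁻¹ = x ≫ k := by
  let X : Over S := Over.mk σ
  let pL : (X ⊗ G).left ⟶ Spec (CommRingCat.of L) := pullback.fst σ G.hom
  haveI : LocallyOfFiniteType pL := inferInstanceAs (LocallyOfFiniteType (pullback.fst σ G.hom))
  haveI : JacobsonSpace ↥(X ⊗ G).left := LocallyOfFiniteType.jacobsonSpace pL
  -- connectedness
  haveI : ConnectedSpace ↥(X ⊗ G).left := by
    obtain ⟨s, τ, hτ⟩ := DiagGrp.exists_residueField_factor σ
    haveI : ConnectedSpace ↥(G.hom.fiber s) :=
      haveI := isConnected_iff_connectedSpace.mp (hconn s)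
      (G.hom.fiberHomeo s).symm.surjective.connectedSpace (G.hom.fiberHomeo s).symm.continuous
    let Gs := Red.bc (S.fromSpecResidueField s) G
    haveI : ConnectedSpace Gs.left := ‹ConnectedSpace ↥(G.hom.fiber s)›
    haveI := RedSubgrp15.geometricallyConnected_of_connected Gs
    have hc : ConnectedSpace ↥(pullback Gs.hom τ) :=
      GeometricallyConnected.geometrically_connectedSpace _ _ _ (IsPullback.of_hasPullback Gs.hom τ)
    let e : (X ⊗ G).left ≅ pullback Gs.hom τ :=
      pullbackSymmetry σ G.hom ≪≫ pullback.congrHom rfl hτ.symm ≪≫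
        (pullbackLeftPullbackSndIso G.hom (S.fromSpecResidueField s) τ).symm
    exact (Scheme.homeoOfIso e.symm).surjective.connectedSpace (Scheme.homeoOfIso e.symm).continuous
  let pt : (X ⟶ G) → ↥(X ⊗ G).left := fun y => (lift (𝟙 X) y).left (IsLocalRing.closedPoint L)
  have hsec : ∀ y : X ⟶ G, (lift (𝟙 X) y).left ≫ pL = 𝟙 _ := fun y =>
    congrArg CommaMorphism.left (lift_fst (𝟙 X) y)
  have hptc : ∀ y, IsClosed ({pt y} : Set ↥(X ⊗ G).left) := fun y =>
    (pointEquivClosedPoint pL ⟨_, hsec y⟩).2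
  have hinj : Function.Injective pt := fun y y' h => by
    have h1 : lift (𝟙 X) y = lift (𝟙 X) y' :=
      Over.OverMorphism.ext (ext_of_apply_closedPoint_eq pL (hsec y) (hsec y') h)
    simpa using congrArg (· ≫ snd X G) h1
  have hcl : ∀ z ∈ closedPoints ↥(X ⊗ G).left, ∃ y : X ⟶ G, pt y = z := by
    intro z hz
    let w := pointOfClosedPoint pL z hz
    have hw : w ≫ pL = 𝟙 _ := pointOfClosedPoint_comp pL z hz
    let y : X ⟶ G := Over.homMk (w ≫ (snd X G).left) (by
      show (w ≫ pullback.snd σ G.hom) ≫ G.hom = σ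
      rw [Category.assoc, ← pullback.condition]
      exact (Category.assoc _ _ _).symm.trans ((congrArg (· ≫ σ) hw).trans (Category.id_comp σ)))
    refine ⟨y, ?_⟩
    have hs : (lift (𝟙 X) y).left = w := by
      apply pullback.hom_ext (f := σ) (g := G.hom)
      · exact (hsec y).trans hw.symm
      · exact congrArg CommaMorphism.left (lift_snd (𝟙 X) y)
    show (lift (𝟙 X) y).left _ = z
    rw [hs]
    exact pointOfClosedPoint_apply pL z hz _
  let Φ : X ⊗ G ⟶ X ⊗ G :=
    lift (fst X G) (snd X G * (fst X G ≫ x ≫ k) * (snd X G)⁻¹)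
  have hΦ : ∀ y : X ⟶ G, Φ.left (pt y) = pt (y * (x ≫ k) * y⁻¹) := fun y => by
    have h : lift (𝟙 X) y ≫ Φ = lift (𝟙 X) (y * (x ≫ k) * y⁻¹) := by
      simp only [Φ, comp_lift, lift_fst, MonObj.comp_mul, GrpObj.comp_inv, lift_snd, lift_fst_assoc,
        Category.id_comp]
    show ((lift (𝟙 X) y).left ≫ Φ.left) _ = _
    rw [← Over.comp_left, h]
  let F : Set ↥(X ⊗ G).left := Set.range fun x' : X ⟶ K => pt (x' ≫ k)
  have hFfin : F.Finite := Set.finite_range _
  have hFc : ∀ z ∈ F, IsClosed ({z} : Set ↥(X ⊗ G).left) := by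
    rintro _ ⟨x', rfl⟩
    exact hptc _
  have hFclosed : ∀ A ⊆ F, IsClosed A := fun A hA => by
    rw [← Set.biUnion_of_singleton A]
    exact (hFfin.subset hA).isClosed_biUnion fun z hz => hFc z (hA hz)
  have hclosed : closedPoints ↥(X ⊗ G).left ⊆ Φ.left ⁻¹' F := fun z hz => by
    obtain ⟨y, rfl⟩ := hcl z hz
    obtain ⟨n', hn'⟩ := hKn X y x
    exact ⟨n', (congrArg pt hn').symm.trans (hΦ y).symm⟩
  have huniv : ∀ z, Φ.left z ∈ F := fun z => by
    have h := closure_minimal hclosed ((hFclosed F subset_rfl).preimage Φ.left.continuous)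
    rw [closure_closedPoints] at h
    exact h (Set.mem_univ z)
  have hpre : _root_.IsPreconnected (Set.range Φ.left) := isPreconnected_range Φ.left.continuous
  have hsub : Φ.left (pt g) = Φ.left (pt 1) := by
    by_contra hne
    obtain ⟨z, -, hz1, hz2⟩ := isPreconnected_closed_iff.mp hpre {Φ.left (pt g)} (F \ {Φ.left (pt g)})
      (hFc _ (huniv _)) (hFclosed _ Set.diff_subset)
      (fun z hz => by
        obtain ⟨a, rfl⟩ := hz
        by_cases h : Φ.left a = Φ.left (pt g)
        · exact Or.inl h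
        · exact Or.inr ⟨huniv a, h⟩)
      ⟨_, ⟨pt g, rfl⟩, rfl⟩ ⟨_, ⟨pt 1, rfl⟩, huniv _, fun h => hne h.symm⟩
    exact hz2.2 hz1
  rw [hΦ, hΦ, _root_.one_mul, inv_one, _root_.mul_one] at hsub
  exact hinj hsub

/-- Two maps from a reduced scheme over an algebraically closed field agree if they agree on rational points. -/
theorem hom_eq_of_points {L : Type u} [Field L] [IsAlgClosed L] {Y W : Scheme.{u}} (g : Y ⟶ S) [IsSeparated g]
    [LocallyOfFiniteType g] (σ : Spec (CommRingCat.of L) ⟶ S) (p : W ⟶ Spec (CommRingCat.of L))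
    [LocallyOfFiniteType p] [IsReduced W] (f f' : W ⟶ Y) (hf : f ≫ g = p ≫ σ) (hf' : f' ≫ g = p ≫ σ)
    (h : ∀ w : Spec (CommRingCat.of L) ⟶ W, w ≫ p = 𝟙 _ → w ≫ f = w ≫ f') : f = f' := by
  let u : W ⟶ pullback σ g := pullback.lift p f hf.symm
  let v : W ⟶ pullback σ g := pullback.lift p f' hf'.symm
  haveI : LocallyOfFiniteType (u ≫ pullback.fst σ g) := by rw [pullback.lift_fst]; infer_instance
  have key : u = v := by
    refine ext_of_apply_eq (pullback.fst σ g) Set.univ isClosed_univ.isLocallyClosed dense_univ (fun z _ hz => ?_)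
      (by rw [pullback.lift_fst, pullback.lift_fst])
    let w := pointOfClosedPoint p z hz
    have hw : w ≫ p = 𝟙 _ := pointOfClosedPoint_comp p z hz
    have h1 : w ≫ u = w ≫ v := by
      apply pullback.hom_ext
      · rw [Category.assoc, Category.assoc, pullback.lift_fst, pullback.lift_fst]
      · rw [Category.assoc, Category.assoc, pullback.lift_snd, pullback.lift_snd, h w hw]
    have h2 := congrArg (fun t : Spec (CommRingCat.of L) ⟶ pullback σ g => t (IsLocalRing.closedPoint L)) h1
    simp only [Scheme.Hom.comp_apply] at h2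
    rwa [show w (IsLocalRing.closedPoint L) = z from pointOfClosedPoint_apply p z hz _] at h2
  have h3 := congrArg (· ≫ pullback.snd σ g) key
  simpa only [u, v, pullback.lift_snd] using h3

/-- Centrality of a field-valued point is tested on an algebraically closed extension. -/
theorem central_field [Smooth G.hom] [IsSeparated G.hom] {F L : Type u} [Field F] [Field L] [IsAlgClosed L]
    (σ₀ : Spec (CommRingCat.of F) ⟶ S) (x : Over.mk σ₀ ⟶ G) (q : Spec (CommRingCat.of L) ⟶ Spec (CommRingCat.of F))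
    (hc : ∀ g : Over.mk (q ≫ σ₀) ⟶ G, ((Over.homMk q : Over.mk (q ≫ σ₀) ⟶ Over.mk σ₀) ≫ x) * g =
      g * ((Over.homMk q : Over.mk (q ≫ σ₀) ⟶ Over.mk σ₀) ≫ x))
    (X' : Over S) (a : X' ⟶ Over.mk σ₀) (h : X' ⟶ G) : (a ≫ x) * h = h * (a ≫ x) := by
  let X₀ : Over S := Over.mk σ₀
  let X : Over S := Over.mk (q ≫ σ₀)
  let qo : X ⟶ X₀ := Over.homMk q
  let u : X₀ ⊗ G ⟶ G := (fst X₀ G ≫ x) * snd X₀ G
  let v : X₀ ⊗ G ⟶ G := snd X₀ G * (fst X₀ G ≫ x)
  suffices huv : u = v by
    have := congrArg (lift a h ≫ ·) huv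
    have e1 : lift a h ≫ fst X₀ G ≫ x = a ≫ x :=
      (Category.assoc _ _ _).symm.trans (congrArg (· ≫ x) (lift_fst a h))
    have e2 : lift a h ≫ snd X₀ G = h := lift_snd a h
    simpa only [u, v, MonObj.comp_mul, e1, e2] using this
  let m : X ⊗ G ⟶ X₀ ⊗ G := lift (fst X G ≫ qo) (snd X G)
  -- equality on geometric points
  have hm : m ≫ u = m ≫ v := by
    apply Over.OverMorphism.ext
    let pL : (X ⊗ G).left ⟶ Spec (CommRingCat.of L) := pullback.fst (q ≫ σ₀) G.hom
    haveI : Smooth pL := inferInstanceAs (Smooth (pullback.fst (q ≫ σ₀) G.hom))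
    haveI : IsReduced (X ⊗ G).left := RedSmooth.isReduced_of_smooth pL
    have hW : (X ⊗ G).hom = pL ≫ (q ≫ σ₀) := rfl
    refine hom_eq_of_points G.hom (q ≫ σ₀) pL _ _ ((Over.w (m ≫ u)).trans hW) ((Over.w (m ≫ v)).trans hW)
      fun w hw => ?_
    have hww : w ≫ (X ⊗ G).hom = q ≫ σ₀ := by
      rw [hW, ← Category.assoc, hw, Category.id_comp]
    let y : X ⟶ X ⊗ G := Over.homMk w hww
    have hy : y ≫ fst X G = 𝟙 X := Over.OverMorphism.ext hw
    have e0 : y ≫ m ≫ fst X₀ G ≫ x = qo ≫ x := by
      rw [← Category.assoc m, show m ≫ fst X₀ G = fst X G ≫ qo from lift_fst _ _, ← Category.assoc y,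
        ← Category.assoc y, hy, Category.id_comp]
    have e1 : y ≫ m ≫ snd X₀ G = y ≫ snd X G := by
      rw [show m ≫ snd X₀ G = snd X G from lift_snd _ _]
    have hyy : y ≫ m ≫ u = y ≫ m ≫ v := by
      simp only [u, v, MonObj.comp_mul, e0, e1]
      exact hc _
    exact congrArg CommaMorphism.left hyy
  -- descent along the surjection
  haveI : Surjective m.left := by
    have sq : IsPullback m.left (fst X G).left (fst X₀ G).left q := by
      refine IsPullback.of_right (h₁₂ := (snd X₀ G).left) (v₁₃ := G.hom) (h₂₂ := σ₀) ?_ ?_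
        (IsPullback.of_hasPullback σ₀ G.hom).flip
      · rw [show m.left ≫ (snd X₀ G).left = (snd X G).left from congrArg CommaMorphism.left (lift_snd (fst X G ≫ qo) (snd X G))]
        exact (IsPullback.of_hasPullback (q ≫ σ₀) G.hom).flip
      · exact congrArg CommaMorphism.left (lift_fst (fst X G ≫ qo) (snd X G))
    haveI : Surjective q := ⟨fun p => ⟨IsLocalRing.closedPoint L, Subsingleton.elim (α := PrimeSpectrum F) _ _⟩⟩
    exact MorphismProperty.of_isPullback (P := @Surjective) sq.flip ‹Surjective q›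
  haveI : Smooth (fst X₀ G).left := inferInstanceAs (Smooth (pullback.fst σ₀ G.hom))
  haveI : IsReduced (X₀ ⊗ G).left := RedSmooth.isReduced_of_smooth
    (Y := Spec (CommRingCat.of F)) (fst X₀ G).left
  apply Over.OverMorphism.ext
  exact ext_of_isDominant_of_isSeparated G.hom ((Over.w u).trans (Over.w v).symm) m.left
    (congrArg CommaMorphism.left hm)

/-- The existence part of the valuative criterion for a normal subgroup with finite geometric fibres. -/
theorem existence [Smooth G.hom] [IsSeparated G.hom]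
    (hconn : ∀ s : S, _root_.IsConnected (G.hom ⁻¹' {s}))
    {Z : Over S} [GrpObj Z] (j : Z ⟶ G) (hZ : Red.IsCentre j) (hZm : SGA3x.IsMultTypeFT Z)
    (k : K ⟶ G) [IsMonHom k] [IsClosedImmersion k.left] (hKn : AlgGrp.IsNormalHom k)
    {U : Scheme.{u}} (b : U ⟶ S)
    (hfin : ∀ (L : Type u) [Field L] [IsAlgClosed L] (σ : Spec (CommRingCat.of L) ⟶ U),
      Finite (Over.mk (σ ≫ b) ⟶ K)) :
    ValuativeCriterion.Existence (pullback.snd K.hom b) := by
  obtain ⟨hjm, hjmono, hjuniv⟩ := hZ
  haveI := hjm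
  haveI := hjmono
  haveI : Mono k := (Over.forget S).mono_of_mono_map (inferInstanceAs (Mono k.left))
  intro C
  obtain ⟨R, F, i₁, i₂, ⟨hw⟩⟩ := C
  let spK := Spec.map (CommRingCat.ofHom (algebraMap R F))
  let σ₀ : Spec (CommRingCat.of F) ⟶ S := (spK ≫ i₂) ≫ b
  let X₀ : Over S := Over.mk σ₀
  let x : X₀ ⟶ K := Over.homMk (i₁ ≫ pullback.fst K.hom b) (by
    show (i₁ ≫ pullback.fst K.hom b) ≫ K.hom = σ₀
    rw [Category.assoc, pullback.condition, ← Category.assoc, hw])
  let L := AlgebraicClosure F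
  let q : Spec (CommRingCat.of L) ⟶ Spec (CommRingCat.of F) := Spec.map (CommRingCat.ofHom (algebraMap F L))
  let X : Over S := Over.mk (q ≫ σ₀)
  let qo : X ⟶ X₀ := Over.homMk q
  haveI : Finite (X ⟶ K) := by
    have h := hfin L (q ≫ spK ≫ i₂)
    rw [show (q ≫ spK ≫ i₂) ≫ b = q ≫ σ₀ by simp only [σ₀, Category.assoc]] at h
    exact h
  -- centrality
  have hcg : ∀ g : X ⟶ G, (qo ≫ x ≫ k) * g = g * (qo ≫ x ≫ k) := fun g => by
    have h := central_geom hconn k hKn (q ≫ σ₀) (qo ≫ x) g
    rw [Category.assoc] at h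
    exact (mul_inv_eq_iff_eq_mul.mp h).symm
  obtain ⟨z, hz⟩ := (hjuniv X₀ (x ≫ k)).mpr fun X' a h => by
    rw [Category.comp_id]
    exact central_field σ₀ (x ≫ k) q hcg X' a h
  -- torsion
  obtain ⟨n, hn, hxn⟩ : ∃ n, 0 < n ∧ (qo ≫ x) ^ n = 1 := (isOfFinOrder_of_finite (qo ≫ x)).exists_pow_eq_one
  have hqz : (qo ≫ z) ^ n = 1 := by
    rw [← cancel_mono j, MonObj.pow_comp, Category.assoc, hz, ← Category.assoc, ← MonObj.pow_comp, hxn,
      MonObj.one_comp, MonObj.one_comp]
  haveI : Surjective q := ⟨fun p => ⟨IsLocalRing.closedPoint L, Subsingleton.elim (α := PrimeSpectrum F) _ _⟩⟩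
  haveI : Flat q := DiagGrp.flat_of_field q
  haveI : QuasiCompact q := inferInstance
  haveI : Epi q := Flat.epi_of_flat_of_surjective q
  haveI : Epi qo := (Over.forget S).epi_of_epi_map ‹Epi q›
  have hzn : z ^ n = 1 := by
    rw [← cancel_epi qo, MonObj.comp_pow, hqz, MonObj.comp_one]
  -- extension
  let P : Z ⟶ Z := (𝟙 Z) ^ n
  haveI : IsFinite P.left := isFinite_pow Z hZm n hn
  let Nn := pullback.snd P.left η[Z].left
  have hzP : z.left ≫ P.left = (spK ≫ i₂ ≫ b) ≫ η[Z].left := by
    rw [← Over.comp_left, MonObj.comp_pow, Category.comp_id, hzn, Hom.one_def, Over.comp_left]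
    exact congrArg (fun t : Spec (CommRingCat.of F) ⟶ S => t ≫ η[Z].left) (Category.assoc spK i₂ b)
  let S₁ : ValuativeCommSq Nn :=
    { R := R, K := F, i₁ := pullback.lift z.left (spK ≫ i₂ ≫ b) hzP, i₂ := i₂ ≫ b,
      commSq := ⟨pullback.lift_snd _ _ _⟩ }
  have hex : ValuativeCriterion.Existence Nn := by
    have : (ValuativeCriterion.Existence ⊓ @QuasiCompact) Nn := by
      rw [← UniversallyClosed.eq_valuativeCriterion]
      exact inferInstanceAs (UniversallyClosed Nn)
    exact this.1
  obtain ⟨⟨l, hl₁, hl₂⟩⟩ := (hex S₁).exists_lift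
  dsimp only [S₁] at hl₁ hl₂
  let g : Spec (CommRingCat.of R) ⟶ G.left := l ≫ pullback.fst P.left η[Z].left ≫ j.left
  have hgK : spK ≫ g = (i₁ ≫ pullback.fst K.hom b) ≫ k.left := by
    show spK ≫ l ≫ _ = _
    rw [← Category.assoc, hl₁, pullback.lift_fst_assoc, ← Over.comp_left, hz]
    rfl
  have hgS : g ≫ G.hom = i₂ ≫ b := by
    show (l ≫ pullback.fst P.left η[Z].left ≫ j.left) ≫ G.hom = _
    have h1 : pullback.fst P.left η[Z].left ≫ Z.hom = pullback.snd P.left η[Z].left := by
      rw [← Over.w P, ← Category.assoc, pullback.condition, Category.assoc, Over.w η[Z]]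
      exact Category.comp_id _
    rw [Category.assoc, Category.assoc, Over.w j, h1]
    exact hl₂
  let π := pullback.snd k.left g
  haveI : IsIso π := by
    haveI : IsClosedImmersion π := inferInstance
    haveI : Surjective π := by
      refine ⟨fun p => ?_⟩
      let sec : Spec (CommRingCat.of F) ⟶ pullback k.left g :=
        pullback.lift (i₁ ≫ pullback.fst K.hom b) spK hgK.symm
      have hsec : sec ≫ π = spK := pullback.lift_snd _ _ _
      have hd : IsDominant spK := by
        refine ⟨?_⟩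
        exact (PrimeSpectrum.denseRange_comap_iff_ker_le_nilRadical (algebraMap R F)).2
          (by rw [(RingHom.injective_iff_ker_eq_bot _).mp (IsFractionRing.injective R F)]; exact bot_le)
      have hr : Set.range spK ⊆ Set.range π := by
        rintro _ ⟨t, rfl⟩
        exact ⟨sec t, by rw [← Scheme.Hom.comp_apply, hsec]⟩
      have hc : IsClosed (Set.range π) := π.isClosedEmbedding.isClosed_range
      exact closure_minimal hr hc (hd.denseRange p)
    haveI : IsReduced (Spec (CommRingCat.of R)) := inferInstance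
    exact isIso_of_isClosedImmersion_of_surjective π
  let lK : Spec (CommRingCat.of R) ⟶ K.left := inv π ≫ pullback.fst k.left g
  have hlK : lK ≫ k.left = g := by
    show (inv π ≫ pullback.fst k.left g) ≫ k.left = g
    rw [Category.assoc, pullback.condition, IsIso.inv_hom_id_assoc]
  have hlS : lK ≫ K.hom = i₂ ≫ b := by
    rw [← Over.w k, ← Category.assoc, hlK, hgS]
  refine ⟨⟨{ l := pullback.lift lK i₂ hlS, fac_left := ?_, fac_right := pullback.lift_snd _ _ _ }⟩⟩
  apply pullback.hom_ext
  · rw [Category.assoc, pullback.lift_fst, ← cancel_mono k.left, Category.assoc, hlK, hgK]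
  · rw [Category.assoc, pullback.lift_snd]
    exact hw.symm

/-- A normal subgroup is finite where its fibres are finite. -/
theorem isFinite_snd [Smooth G.hom] [IsSeparated G.hom]
    (hconn : ∀ s : S, _root_.IsConnected (G.hom ⁻¹' {s}))
    {Z : Over S} [GrpObj Z] (j : Z ⟶ G) (hZ : Red.IsCentre j) (hZm : SGA3x.IsMultTypeFT Z)
    (k : K ⟶ G) [IsMonHom k] [IsClosedImmersion k.left] (hKn : AlgGrp.IsNormalHom k)
    [LocallyOfFiniteType K.hom] [QuasiCompact K.hom] {U : Scheme.{u}} (b : U ⟶ S)
    [LocallyQuasiFinite (pullback.snd K.hom b)] : IsFinite (pullback.snd K.hom b) := by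
  haveI : IsSeparated K.hom := by rw [← Over.w k]; infer_instance
  have hfin : ∀ (L : Type u) [Field L] [IsAlgClosed L] (σ : Spec (CommRingCat.of L) ⟶ U),
      Finite (Over.mk (σ ≫ b) ⟶ K) := fun L _ _ σ => by
    haveI : LocallyQuasiFinite (pullback.snd K.hom (σ ≫ b)) := by
      rw [← pullbackLeftPullbackSndIso_inv_snd_snd]
      infer_instance
    exact finite_pts_over K (σ ≫ b)
  haveI : UniversallyClosed (pullback.snd K.hom b) :=
    UniversallyClosed.of_valuativeCriterion _ (existence hconn j hZ hZm k hKn b hfin)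
  haveI : IsProper (pullback.snd K.hom b) := {}
  exact IsFinite.of_isProper_of_locallyQuasiFinite _

end GrothLib.NormQF14
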